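import Groth.Prelude.Def_Red
import Mathlib.RingTheory.TensorProduct.MonoidAlgebra
import Mathlib.RingTheory.TensorProduct.Maps
import Mathlib.AlgebraicGeometry.Limits

/-! Tori over a field are connected. -/

set_option linter.style.haveILetI false
set_option autoImplicit false
set_option backward.isDefEq.respectTransparency.types false
universe u

open CategoryTheory MonoidalCategory CartesianMonoidalCategory AlgebraicGeometry CategoryTheory.Limits
open scoped TensorProduct

namespace Groth.Agent.TorusConnLib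

theorem isIntegral_pullback_diag (Z L : Type u) [CommRing Z] [Field L] [Algebra Z L] (r : ℕ) :
    IsIntegral (pullback (Red.diag Z (Fin r → ℤ)).hom (Spec.map (CommRingCat.ofHom (algebraMap Z L)))) := by
  haveI : IsDomain (MonoidAlgebra L (Multiplicative (Fin r → ℤ))) := NoZeroDivisors.to_isDomain _
  haveI : IsDomain (L ⊗[Z] MonoidAlgebra Z (Multiplicative (Fin r → ℤ))) :=
    (MonoidAlgebra.scalarTensorEquiv Z L (M := Multiplicative (Fin r → ℤ))).toRingEquiv.toMulEquiv.isDomain _
  let e : pullback (Red.diag Z (Fin r → ℤ)).hom (Spec.map (CommRingCat.ofHom (algebraMap Z L))) ≅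
      Spec (CommRingCat.of (L ⊗[Z] MonoidAlgebra Z (Multiplicative (Fin r → ℤ)))) :=
    pullbackSymmetry _ _ ≪≫ pullbackSpecIso Z L (MonoidAlgebra Z (Multiplicative (Fin r → ℤ)))
  exact IsIntegral.of_isIso e.inv

/-- A split torus over a field is integral. -/
theorem isIntegral_DS (L : Type u) [Field L] (r : ℕ) :
    IsIntegral (Red.DS (Spec (CommRingCat.of L)) (Fin r → ℤ)).left := by
  letI := ((Int.castRingHom L).comp ULift.ringEquiv.toRingHom).toAlgebra (R := ULift.{u} ℤ)
  haveI := isIntegral_pullback_diag (ULift.{u} ℤ) L r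
  exact IsIntegral.of_isIso (pullback.congrHom rfl (specULiftZIsTerminal.hom_ext
    (Spec.map (CommRingCat.ofHom (algebraMap (ULift.{u} ℤ) L))) (IsTerminal.from specULiftZIsTerminal _))).hom

/-- A torus over a field is connected. -/
theorem connectedSpace {K : Type u} [Field K] (T : Over (Spec (CommRingCat.of K))) [GrpObj T]
    (hT : Red.IsTorus T) : ConnectedSpace T.left := by
  obtain ⟨S', f, -, hs, -, hU⟩ := hT
  obtain ⟨s', -⟩ := hs.surj (default : PrimeSpectrum K)
  obtain ⟨U, hmem, r, ⟨e⟩⟩ := hU s'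
  let L : Type u := S'.residueField s'
  let j : Spec (CommRingCat.of L) ⟶ U := IsOpenImmersion.lift U.ι (S'.fromSpecResidueField s') (by
    rintro _ ⟨x, rfl⟩
    rw [Scheme.fromSpecResidueField_apply, Scheme.Opens.range_ι]
    exact hmem)
  let D := Red.DS (Spec (CommRingCat.of L)) (Fin r → ℤ)
  haveI : IsIntegral D.left := isIntegral_DS L r
  haveI : ConnectedSpace D.left := inferInstance
  haveI : Surjective (j ≫ U.ι ≫ f) := ⟨fun x => ⟨default, Subsingleton.elim (α := PrimeSpectrum K) _ _⟩⟩
  haveI : Surjective (pullback.fst T.hom (j ≫ U.ι ≫ f)) :=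
    MorphismProperty.pullback_fst (P := @Surjective) _ _ inferInstance
  let c : (Red.bc j (Red.bc (U.ι ≫ f) T)).left ≅ pullback T.hom (j ≫ U.ι ≫ f) :=
    pullbackLeftPullbackSndIso T.hom (U.ι ≫ f) j
  let d : (Red.bc j (Red.DS U (Fin r → ℤ))).left ≅ D.left :=
    pullbackLeftPullbackSndIso _ _ j ≪≫ pullback.congrHom rfl (specULiftZIsTerminal.hom_ext _ _)
  let φ : D.left ⟶ T.left :=
    d.inv ≫ ((Over.forget _).mapIso ((Over.pullback j).mapIso ((Grp.forget _).mapIso e))).inv ≫ c.hom ≫
      pullback.fst T.hom (j ≫ U.ι ≫ f)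
  haveI : Surjective φ := inferInstance
  exact φ.surjective.connectedSpace φ.continuous

end Groth.Agent.TorusConnLib
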